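import Groth.Agent.An.H879.FiniteClosed
import Mathlib.Topology.Covering.Basic

/-!
# Finite morphisms which are local homeomorphisms on complex points are coverings on complex points
-/

set_option autoImplicit false
open CategoryTheory AlgebraicGeometry Topology TopologicalSpace Opposite Filter

noncomputable section

namespace Groth.Agent.An.H879.Covering

open Groth.Agent.An.H879.FiniteClosed

/-- A closed map with finite fibres which is a local homeomorphism is a covering map, if the target
is covered by open sets with Hausdorff preimage. -/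
theorem isCoveringMap_of_isClosedMap {E B : Type*} [TopologicalSpace E] [TopologicalSpace B]
    {p : E → B} (hcl : IsClosedMap p) (hfin : ∀ b, (p ⁻¹' {b}).Finite)
    (hlh : IsLocalHomeomorph p)
    (hT : ∀ b : B, ∃ V : Set B, IsOpen V ∧ b ∈ V ∧ T2Space (p ⁻¹' V)) : IsCoveringMap p := by
  intro b
  obtain ⟨V, hV, hb, hT2⟩ := hT b
  have hcont := hlh.continuous
  have h1 : IsCoveringMap (V.restrictPreimage p) := by
    rw [isCoveringMap_iff_isCoveringMapOn_univ]
    have hlh' : IsLocalHomeomorph (V.restrictPreimage p) := by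
      refine IsLocalHomeomorph.of_comp (g := Subtype.val) (f := V.restrictPreimage p) ?_
        hV.isOpenEmbedding_subtypeVal.isLocalHomeomorph (hcont.restrictPreimage)
      exact hlh.comp (hV.preimage hcont).isOpenEmbedding_subtypeVal.isLocalHomeomorph
    refine (hcl.restrictPreimage V).isCoveringMapOn_of_isLocalHomeomorphOn (fun x _ => ?_)
      (hlh'.isLocalHomeomorphOn.mono (Set.subset_univ _))
    refine ((hfin x.1).preimage (Subtype.val_injective.injOn)).subset ?_
    rintro z rfl
    exact rfl
  have h2 := IsCoveringMapOn.of_isCoveringMap_restrictPreimage _ hV (hV.preimage hcont) h1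
  exact h2 b hb

/-- A finite morphism which is a local homeomorphism on complex points is a covering map on
complex points. -/
theorem isCoveringMap_map {X Y : Scheme.{0}} [X.Over An.SC] [Y.Over An.SC] (f : X ⟶ Y)
    [f.IsOver An.SC] [IsFinite f] (h : IsLocalHomeomorph (An.Pts.map f)) :
    IsCoveringMap (An.Pts.map f) := by
  refine isCoveringMap_of_isClosedMap (isClosedMap_map_of_isFinite f) (finite_fibre_of_isFinite f) h
    fun y => ?_
  obtain ⟨V, hV, hyV, -⟩ := exists_isAffineOpen_mem_and_subset (X := Y) (x := y.pt) (U := ⊤) trivial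
  refine ⟨An.Pts.pt ⁻¹' (V : Set Y), An.Pts.isOpen_preimage_pt V, hyV, ?_⟩
  have hU : IsAffineOpen (f ⁻¹ᵁ V) := hV.preimage f
  have h1 : An.Pts.map f ⁻¹' (An.Pts.pt ⁻¹' (V : Set Y)) = {x | x.pt ∈ f ⁻¹ᵁ V} := by
    ext x
    change (An.Pts.map f x).pt ∈ V ↔ _
    rw [An.Pts.pt_map]
    rfl
  rw [h1]
  exact t2Space_of_isAffineOpen hU

end Groth.Agent.An.H879.Covering
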