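import Groth.Agent.An.H863.PtsCont
import Groth.Agent.An.H867.Nhds
import Groth.Agent.An.H868.Chart
import Groth.Agent.An.H866.AlgDense
import Mathlib.AlgebraicGeometry.Morphisms.Integral
import Mathlib.AlgebraicGeometry.Morphisms.Finite
import Mathlib.AlgebraicGeometry.Morphisms.QuasiFinite
import Mathlib.Topology.Maps.Proper.UniversallyClosed

/-!
# Integral morphisms induce proper maps on complex points

For `f : X ⟶ Y` an integral morphism of schemes over `ℂ` the map `An.Pts.map f` is proper: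
an ultrafilter argument on affine charts, using that roots of a monic polynomial are bounded in
terms of the coefficients.
-/

set_option autoImplicit false
open CategoryTheory AlgebraicGeometry Topology TopologicalSpace Opposite Filter

noncomputable section

namespace Groth.Agent.An.H879.FiniteClosed

open Groth.Agent.An.H863.PtsBasic Groth.Agent.An.H863.PtsCont

variable {X Y : Scheme.{0}} [X.Over An.SC] [Y.Over An.SC]

/-- Evaluation at a point `x` of `f⁻¹ V` restricted to the functions on `V` is evaluation at the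
image of `x`. -/
lemma evHom_comp_app (f : X ⟶ Y) [f.IsOver An.SC] (x : An.Pts X) (V : Y.Opens)
    (h : x.pt ∈ f ⁻¹ᵁ V) (h' : (An.Pts.map f x).pt ∈ V) :
    (evHom x (f ⁻¹ᵁ V) h).comp (f.app V).hom = evHom (An.Pts.map f x) V h' := by
  ext t
  exact (An.Pts.ev_map f x V h' t).symm

/-- The limit of evaluations along an ultrafilter: a function integral over the functions of
the chart `V` has a limit. -/
lemma exists_tendsto_evAt (f : X ⟶ Y) [f.IsOver An.SC] (𝒰 : Ultrafilter (An.Pts X))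
    (y : An.Pts Y) (h : Tendsto (An.Pts.map f) 𝒰 (𝓝 y)) (V : Y.Opens) (hy : y.pt ∈ V)
    (s : Γ(X, f ⁻¹ᵁ V)) (hs : (f.app V).hom.IsIntegralElem s) :
    ∃ c : ℂ, Tendsto (fun x => evAt x (f ⁻¹ᵁ V) s) 𝒰 (𝓝 c) := by
  obtain ⟨p, hp, hps⟩ := hs
  have hV : ∀ᶠ x in (𝒰 : Filter (An.Pts X)), (An.Pts.map f x).pt ∈ V :=
    h.eventually ((An.Pts.isOpen_preimage_pt V).mem_nhds hy)
  have hlim : Tendsto (fun x => 1 + ∑ i ∈ Finset.range p.natDegree,
      ‖evAt (An.Pts.map f x) V (p.coeff i)‖) 𝒰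
      (𝓝 (1 + ∑ i ∈ Finset.range p.natDegree, ‖evAt y V (p.coeff i)‖)) := by
    refine Tendsto.const_add _ (tendsto_finsetSum _ fun i _ => ?_)
    exact ((continuousAt_evAt V (p.coeff i) hy).tendsto.comp h).norm
  set M := 1 + ∑ i ∈ Finset.range p.natDegree, ‖evAt y V (p.coeff i)‖ with hM
  have hlt : ∀ᶠ x in (𝒰 : Filter (An.Pts X)), 1 + ∑ i ∈ Finset.range p.natDegree,
      ‖evAt (An.Pts.map f x) V (p.coeff i)‖ < M + 1 :=
    hlim.eventually (gt_mem_nhds (by linarith))
  have hbd : ∀ᶠ x in (𝒰 : Filter (An.Pts X)), evAt x (f ⁻¹ᵁ V) s ∈ Metric.closedBall (0 : ℂ) (M + 1) := by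
    filter_upwards [hV, hlt] with x hx hx2
    have hxU : x.pt ∈ f ⁻¹ᵁ V := by rw [An.Pts.pt_map] at hx; exact hx
    rw [mem_closedBall_zero_iff, evAt_of_mem hxU]
    refine le_trans ?_ hx2.le
    have hroot : (p.map (evHom (An.Pts.map f x) V hx)).eval (x.ev _ hxU s) = 0 := by
      rw [Polynomial.eval_map, ← evHom_comp_app f x V hxU hx, ← evHom_apply x _ hxU,
        ← Polynomial.hom_eval₂, hps, map_zero]
    have hroot2 := Groth.Agent.An.H866.AlgDense.norm_root_le
      (p.map (evHom (An.Pts.map f x) V hx)) (hp.map _) _ hroot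
    rw [hp.natDegree_map] at hroot2
    refine hroot2.trans (le_of_eq ?_)
    congr 1
    refine Finset.sum_congr rfl fun i _ => ?_
    rw [Polynomial.coeff_map, evAt_of_mem hx]
    rfl
  obtain ⟨c, -, hc⟩ := (isCompact_closedBall (0 : ℂ) (M + 1)).ultrafilter_le_nhds
    (𝒰.map (fun x => evAt x (f ⁻¹ᵁ V) s)) (by
      rw [Filter.le_principal_iff]
      exact hbd)
  exact ⟨c, hc⟩

/-- **Integral morphisms induce proper maps on complex points.** -/
theorem isProperMap_map_of_isIntegralHom (f : X ⟶ Y) [f.IsOver An.SC] [IsIntegralHom f] :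
    IsProperMap (An.Pts.map f) := by
  rw [isProperMap_iff_ultrafilter]
  refine ⟨An.Pts.continuous_map f, fun 𝒰 y h => ?_⟩
  obtain ⟨V, hV, hyV, -⟩ := exists_isAffineOpen_mem_and_subset (X := Y) (x := y.pt) (U := ⊤) trivial
  have hU : IsAffineOpen (f ⁻¹ᵁ V) := hV.preimage f
  have hint : (f.app V).hom.IsIntegral := IsIntegralHom.isIntegral_app f V hV
  have hmemV : ∀ᶠ x in (𝒰 : Filter (An.Pts X)), (An.Pts.map f x).pt ∈ V :=
    h.eventually ((An.Pts.isOpen_preimage_pt V).mem_nhds hyV)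
  have hmem : ∀ᶠ x in (𝒰 : Filter (An.Pts X)), x.pt ∈ f ⁻¹ᵁ V := by
    filter_upwards [hmemV] with x hx
    rw [An.Pts.pt_map] at hx; exact hx
  choose φ hφ using fun s => exists_tendsto_evAt f 𝒰 y h V hyV s (hint s)
  have hconst : ∀ c : ℂ, φ (strU _ c) = c := by
    intro c
    refine tendsto_nhds_unique (hφ _) (tendsto_const_nhds.congr' ?_)
    filter_upwards [hmem] with x hx
    rw [evAt_of_mem hx, ev_strU]
  let Φ : Γ(X, f ⁻¹ᵁ V) →+* ℂ :=
    { toFun := φ
      map_one' := by
        rw [← map_one (strU (X := X) (f ⁻¹ᵁ V)), hconst]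
      map_zero' := by
        rw [← map_zero (strU (X := X) (f ⁻¹ᵁ V)), hconst]
      map_add' := fun a b => by
        refine tendsto_nhds_unique (hφ _) (((hφ a).add (hφ b)).congr fun x => ?_)
        rw [evAt_add]
      map_mul' := fun a b => by
        refine tendsto_nhds_unique (hφ _) (((hφ a).mul (hφ b)).congr fun x => ?_)
        rw [evAt_mul] }
  have hΦ : ∀ c, Φ (strU _ c) = c := hconst
  let x₀ := Groth.Agent.An.H868.Chart.ofChart hU Φ hΦ
  have hx₀ : x₀.pt ∈ f ⁻¹ᵁ V := Groth.Agent.An.H868.Chart.pt_ofChart hU Φ hΦ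
  have hev : ∀ s, x₀.ev _ hx₀ s = φ s := fun s =>
    Groth.Agent.An.H868.Chart.ev_ofChart hU Φ hΦ hx₀ s
  refine ⟨x₀, ?_, ?_⟩
  · have hx₀' : (An.Pts.map f x₀).pt ∈ V := by rw [An.Pts.pt_map]; exact hx₀
    refine Groth.Agent.An.H868.Chart.ext_of_ev hV hx₀' hyV fun t => ?_
    rw [An.Pts.ev_map, hev]
    refine tendsto_nhds_unique (hφ _) ?_
    have h1 := (continuousAt_evAt V t hyV).tendsto.comp h
    rw [evAt_of_mem hyV] at h1
    refine h1.congr' ?_
    filter_upwards [hmem, hmemV] with x hx hx'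
    rw [Function.comp_apply, evAt_of_mem hx', evAt_of_mem hx, An.Pts.ev_map]
  · rw [(Groth.Agent.An.H867.Nhds.hasBasis_nhds x₀ _ hU hx₀).ge_iff]
    rintro ⟨S, ε⟩ hε
    have h1 : ∀ᶠ x in (𝒰 : Filter (An.Pts X)), ∀ s ∈ S, ‖evAt x (f ⁻¹ᵁ V) s - φ s‖ < ε := by
      rw [Filter.eventually_all_finset]
      intro s _
      have h2 := (hφ s).eventually (Metric.ball_mem_nhds (φ s) hε)
      filter_upwards [h2] with x hx
      rw [← dist_eq_norm]
      exact hx
    filter_upwards [h1, hmem] with x hx hx'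
    refine ⟨hx', fun s hs => ?_⟩
    have := hx s hs
    rw [evAt_of_mem hx'] at this
    rwa [hev s]

/-- Finite morphisms induce closed maps on complex points. -/
theorem isClosedMap_map_of_isFinite (f : X ⟶ Y) [f.IsOver An.SC] [IsFinite f] :
    IsClosedMap (An.Pts.map f) :=
  (isProperMap_map_of_isIntegralHom f).isClosedMap

/-- Finite morphisms have finite fibres on complex points. -/
theorem finite_fibre_of_isFinite (f : X ⟶ Y) [f.IsOver An.SC] [IsFinite f] (y : An.Pts Y) :
    (An.Pts.map f ⁻¹' {y}).Finite := by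
  have h1 : (f ⁻¹' {y.pt}).Finite := f.finite_preimage_singleton y.pt
  refine (h1.preimage (pt_injective.injOn)).subset ?_
  intro x hx
  change f x.pt = y.pt
  rw [← An.Pts.pt_map, show An.Pts.map f x = y from hx]

/-- The complex points of an affine open are separated by functions: `U(ℂ)` is Hausdorff. -/
theorem t2Space_of_isAffineOpen {U : X.Opens} (hU : IsAffineOpen U) :
    T2Space {x : An.Pts X // x.pt ∈ U} := by
  refine ⟨fun x y hxy => ?_⟩
  have : ∃ s : Γ(X, U), x.1.ev U x.2 s ≠ y.1.ev U y.2 s := by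
    by_contra hne
    push Not at hne
    exact hxy (Subtype.ext (Groth.Agent.An.H868.Chart.ext_of_ev hU x.2 y.2 hne))
  obtain ⟨s, hs⟩ := this
  have hcont : Continuous fun z : {x : An.Pts X // x.pt ∈ U} => z.1.ev U z.2 s := by
    rw [continuous_iff_continuousAt]
    intro z
    have h1 : ContinuousAt (fun z : {x : An.Pts X // x.pt ∈ U} => evAt z.1 U s) z :=
      ContinuousAt.comp (f := Subtype.val) (g := fun y : An.Pts X => evAt y U s)
        (continuousAt_evAt U s z.2) continuous_subtype_val.continuousAt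
    refine h1.congr (Filter.Eventually.of_forall fun w => ?_)
    exact evAt_of_mem w.2 s
  obtain ⟨A, B, hA, hB, hxA, hyB, hAB⟩ := t2_separation hs
  exact ⟨_, _, hA.preimage hcont, hB.preimage hcont, hxA, hyB, hAB.preimage _⟩

end Groth.Agent.An.H879.FiniteClosed
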